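import Groth.Agent.GrTransfer.Zero
import Groth.Agent.GrLC.LocCohTors
import Groth.Agent.LocCoh.TopDegree
import Groth.Agent.LocCoh.BaseChange

/-!
# Transfer of graded local cohomology to a sublattice of degrees

`φ : R' → R` maps `R'_j` onto `R_{θ j}` and `M'` is the part `⊕_j M_{c + θ j}` of `M`.
Then `H^p_{a'}(M')_j ≅ H^p_a(M)_{c + θ j}` for ideals with `rad(a' R) = rad a`.
-/

set_option autoImplicit false
set_option linter.unusedSectionVars false
set_option linter.style.haveILetI false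
universe u

open CategoryTheory DirectSum
open Groth.Agent.GrLC

namespace Groth.Agent.GrTransfer

variable {G : Type} [AddCommGroup G] [DecidableEq G] {ι : Type} [AddCommGroup ι] [DecidableEq ι]
variable {R : Type u} [CommRing R] [IsNoetherianRing R] {σ : Type u} [SetLike σ R]
  [AddSubgroupClass σ R] {𝒜 : G → σ} [GradedRing 𝒜]
variable {R' : Type u} [CommRing R'] [IsNoetherianRing R'] {σ' : Type u} [SetLike σ' R']
  [AddSubgroupClass σ' R'] {𝒜' : ι → σ'} [GradedRing 𝒜']

/-- `M'` is, through `g`, the part of `M` in the degrees `c + θ j`. -/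
structure IsPart (φ : R' →+* R) (θ : ι →+ G) (c : G) {M : Type u} [AddCommGroup M] [Module R M]
    {τ : Type u} [SetLike τ M] (ℳ : G → τ) {M' : Type u} [AddCommGroup M'] [Module R' M']
    {τ' : Type u} [SetLike τ' M'] (ℳ' : ι → τ') (g : M' →ₛₗ[φ] M) : Prop where
  injective : Function.Injective g
  mem : ∀ (j : ι) (x : M'), x ∈ ℳ' j → g x ∈ ℳ (c + θ j)
  exists_eq : ∀ (j : ι) (y : M), y ∈ ℳ (c + θ j) → ∃ x ∈ ℳ' j, g x = y

variable (φ : R' →+* R) (θ : ι →+ G) (hθ : Function.Injective θ)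
  (hφ : ∀ (i : ι) (r : R'), r ∈ 𝒜' i → φ r ∈ 𝒜 (θ i))

section Part

variable (c : G) (X : _root_.GrLC.GMod.{u} 𝒜)

/-- The carrier of the part of a graded module. -/
def partSub : letI := Module.compHom X.carrier φ; Submodule R' X.carrier :=
  letI := Module.compHom X.carrier φ
  Submodule.span R' (⋃ j : ι, (X.gr (c + θ j) : Set X.carrier))

end Part

include hθ in
/-- Every graded module has a part. -/
theorem exists_part (c : G) (hφ : ∀ (i : ι) (r : R'), r ∈ 𝒜' i → φ r ∈ 𝒜 (θ i))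
    (X : _root_.GrLC.GMod.{u} 𝒜) :
    ∃ (X' : _root_.GrLC.GMod.{u} 𝒜') (g : X'.carrier →ₛₗ[φ] X.carrier),
      IsPart φ θ c X.gr X'.gr g := by
  classical
  letI := Module.compHom X.carrier φ
  let S : Submodule R' X.carrier := partSub φ θ c X
  have hS : ∀ e, (∀ j, e ≠ c + θ j) → ∀ x ∈ S, cpt X.gr e x = 0 := by
    intro e he x hx
    suffices h : ∀ x ∈ S, ∀ e, (∀ j, e ≠ c + θ j) → cpt X.gr e x = 0 from h x hx e he
    intro x hx
    induction hx using Submodule.span_induction with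
    | mem x hx =>
      obtain ⟨j, hj⟩ := Set.mem_iUnion.1 hx
      exact fun e he => cpt_of_mem_ne X.gr hj (he j).symm
    | zero => simp
    | add a b _ _ ha hb => exact fun e he => by rw [map_add, ha e he, hb e he, add_zero]
    | smul r a _ ha =>
      intro e he
      change cpt X.gr e (φ r • a) = 0
      induction r using homogeneous_induction 𝒜' with
      | zero => simp
      | add r s hr hs => rw [map_add, add_smul, map_add, hr, hs, add_zero]
      | hom i r hr =>
        rw [cpt_smul_left' (𝒜 := 𝒜) X.gr (hφ i r hr), ha (e - θ i) (fun j hj => he (i + j)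
          (by rw [map_add, ← add_assoc, add_comm c, add_assoc, ← hj, add_sub_cancel])), smul_zero]
  have hmemS : ∀ j, ∀ x ∈ X.gr (c + θ j), x ∈ S := fun j x hx =>
    Submodule.subset_span (Set.mem_iUnion.2 ⟨j, hx⟩)
  let G' : ι → AddSubgroup S := fun j => (X.gr (c + θ j)).comap S.subtype.toAddMonoidHom
  let π : ι → S →+ S := fun j =>
    ((cpt X.gr (c + θ j)).comp S.subtype.toAddMonoidHom).codRestrict S.toAddSubgroup.toAddSubmonoid
      (fun x => hmemS j _ (cpt_mem X.gr _ _))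
  have hint : DirectSum.IsInternal G' := by
    refine isInternal_of_proj G' π (fun j x hx => Subtype.ext (cpt_of_mem X.gr hx)) ?_ ?_
    · exact fun j l x hx hne => Subtype.ext
        (cpt_of_mem_ne X.gr hx fun e => hne (hθ (add_left_cancel e)))
    · intro x
      have key : ∀ e ∈ degs X.gr (x : X.carrier), ∃ j, e = c + θ j := fun e he => by
        by_contra h
        push Not at h
        exact (mem_degs X.gr).1 he (hS e h x.1 x.2)
      choose! jf hjf using key
      have hx : x = ∑ e ∈ degs X.gr (x : X.carrier), π (jf e) x := by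
        refine Subtype.ext ?_
        rw [AddSubmonoidClass.coe_finsetSum]
        conv_lhs => rw [← sum_cpt X.gr (x : X.carrier)]
        refine Finset.sum_congr rfl fun e he => ?_
        conv_lhs => rw [hjf e he]
        rfl
      rw [hx]
      exact sum_mem fun e _ => AddSubgroup.mem_iSup_of_mem (jf e)
        (cpt_mem X.gr (c + θ (jf e)) (x : X.carrier))
  letI := hint.chooseDecomposition
  haveI : SetLike.GradedSMul 𝒜' G' := ⟨fun i j r x hr hx => by
    have h : φ r • (x : X.carrier) ∈ X.gr (θ i + (c + θ j)) :=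
      SetLike.GradedSMul.smul_mem (A := 𝒜) (B := X.gr) (hφ i r hr) hx
    change φ r • (x : X.carrier) ∈ X.gr (c + θ (i + j))
    rwa [map_add, add_left_comm]⟩
  refine ⟨{ carrier := S, gr := G' }, ⟨⟨fun x => x.1, fun _ _ => rfl⟩, fun r x => rfl⟩,
    ⟨Subtype.val_injective, fun j x hx => hx, fun j y hy => ⟨⟨y, hmemS j y hy⟩, hy, rfl⟩⟩⟩

variable {φ θ} {c : G}
variable {M : Type u} [AddCommGroup M] [Module R M] {τ : Type u} [SetLike τ M] [AddSubgroupClass τ M]
  {ℳ : G → τ} [DirectSum.Decomposition ℳ] [SetLike.GradedSMul 𝒜 ℳ]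
variable {M' : Type u} [AddCommGroup M'] [Module R' M'] {τ' : Type u} [SetLike τ' M']
  [AddSubgroupClass τ' M'] {ℳ' : ι → τ'} [DirectSum.Decomposition ℳ']
  [SetLike.GradedSMul 𝒜' ℳ'] {g : M' →ₛₗ[φ] M}

include hθ in
theorem IsPart.cpt_eq (hg : IsPart φ θ c ℳ ℳ' g) (j : ι) (x : M') :
    g (cpt ℳ' j x) = cpt ℳ (c + θ j) (g x) := by
  induction x using homogeneous_induction ℳ' with
  | zero => simp
  | add a b ha hb => simp only [map_add, ha, hb]
  | hom i x hx =>
    rw [cpt_of_mem_ite ℳ' _ hx, cpt_of_mem_ite ℳ _ (hg.mem i x hx)]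
    by_cases h : i = j
    · rw [if_pos h, if_pos (by rw [h])]
    · rw [if_neg h, if_neg fun e => h (hθ (add_left_cancel e)), map_zero]

/-- A homogeneous map restricts to the parts. -/
theorem IsPart.exists_map (hg : IsPart φ θ c ℳ ℳ' g) {N : Type u} [AddCommGroup N] [Module R N]
    {τN : Type u} [SetLike τN N] [AddSubgroupClass τN N] {𝒩 : G → τN}
    {N' : Type u} [AddCommGroup N'] [Module R' N'] {τN' : Type u} [SetLike τN' N']
    [AddSubgroupClass τN' N'] {𝒩' : ι → τN'} {gN : N' →ₛₗ[φ] N} (hgN : IsPart φ θ c 𝒩 𝒩' gN)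
    {f : M →ₗ[R] N} (hf : _root_.GrLC.IsGrHom ℳ 𝒩 f) :
    ∃ f' : M' →ₗ[R'] N', (∀ x, gN (f' x) = f (g x)) ∧ _root_.GrLC.IsGrHom ℳ' 𝒩' f' := by
  have hex : ∀ x : M', ∃ y : N', gN y = f (g x) := by
    intro x
    induction x using homogeneous_induction ℳ' with
    | zero => exact ⟨0, by simp⟩
    | add a b ha hb =>
      obtain ⟨y, hy⟩ := ha
      obtain ⟨z, hz⟩ := hb
      exact ⟨y + z, by rw [map_add, hy, hz, map_add, map_add]⟩
    | hom j x hx =>
      obtain ⟨y, -, hy⟩ := hgN.exists_eq j _ (hf _ _ (hg.mem j x hx))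
      exact ⟨y, hy⟩
  choose f' hf' using hex
  refine ⟨⟨⟨f', fun a b => hgN.injective (by simp [hf'])⟩,
    fun r a => hgN.injective (by simp [hf'])⟩, hf', fun j x hx => ?_⟩
  obtain ⟨y, hy, hy'⟩ := hgN.exists_eq j _ (hf _ _ (hg.mem j x hx))
  change f' x ∈ 𝒩' j
  rwa [← hgN.injective (hy'.trans (hf' x).symm)]

/-- Two surjections with corresponding kernels induce an isomorphism. -/
theorem exists_induced {A A' B B' : Type*} [AddCommGroup A] [AddCommGroup A'] [AddCommGroup B]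
    [AddCommGroup B'] (D : A →+ B) (D' : A' →+ B') (hD : Function.Surjective D)
    (hD' : Function.Surjective D') (e : A' ≃+ A) (hker : ∀ x, D' x = 0 ↔ D (e x) = 0) :
    ∃ ē : B' ≃+ B, ∀ x, ē (D' x) = D (e x) := by
  have hwd : ∀ x y, D' x = D' y → D (e x) = D (e y) := fun x y h => by
    rw [← sub_eq_zero, ← map_sub, ← map_sub, ← hker, map_sub, h, sub_self]
  let f : B' → B := fun b => D (e (Function.surjInv hD' b))
  have hf : ∀ x, f (D' x) = D (e x) := fun x => hwd _ _ (Function.surjInv_eq hD' _)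
  have hadd : ∀ b b', f (b + b') = f b + f b' := fun b b' => by
    obtain ⟨x, rfl⟩ := hD' b
    obtain ⟨y, rfl⟩ := hD' b'
    rw [← map_add, hf, hf, hf, map_add, map_add]
  refine ⟨AddEquiv.ofBijective (AddMonoidHom.mk' f hadd) ⟨fun b b' h => ?_, fun y => ?_⟩, hf⟩
  · obtain ⟨x, rfl⟩ := hD' b
    obtain ⟨y, rfl⟩ := hD' b'
    change f _ = f _ at h
    rw [hf, hf] at h
    rw [← sub_eq_zero, ← map_sub, hker, map_sub, map_sub, h, sub_self]
  · obtain ⟨x, rfl⟩ := hD y
    exact ⟨D' (e.symm x), by change f _ = _; rw [hf, e.apply_symm_apply]⟩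

/-- *Injective graded modules are acyclic. -/
theorem subsingleton_H_of_starInj {X : _root_.GrLC.GMod.{u} 𝒜} (hX : _root_.GrLC.IsStarInj 𝒜 X.gr)
    (a : HomogeneousIdeal 𝒜) (p : ℕ) : Subsingleton (LocCoh.H a.toIdeal (p + 1) X.carrier) := by
  refine subsingleton_of_forall_eq 0 fun x => ?_
  obtain ⟨n, e, rfl⟩ := LocCohElt.exists_mk a.toIdeal (p + 1) X.carrier x
  haveI := ext_quoPow_subsingleton hX a n (p + 1) (by omega)
  rw [Subsingleton.elim e 0, map_zero]

include hθ hφ in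
/-- The part of an acyclic module is acyclic. -/
theorem subsingleton_H_part {X : _root_.GrLC.GMod.{u} 𝒜} {X' : _root_.GrLC.GMod.{u} 𝒜'}
    {gX : X'.carrier →ₛₗ[φ] X.carrier} (hgX : IsPart φ θ c X.gr X'.gr gX)
    (a : HomogeneousIdeal 𝒜) (a' : HomogeneousIdeal 𝒜')
    (hrad : (a'.toIdeal.map φ).radical = a.toIdeal.radical) (p : ℕ)
    (h : Subsingleton (LocCoh.H a.toIdeal p X.carrier)) :
    Subsingleton (LocCoh.H a'.toIdeal p X'.carrier) := by
  classical
  letI : Algebra R' R := φ.toAlgebra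
  letI : Module R' X.carrier := Module.compHom X.carrier φ
  let Y : ModuleCat.{u} R' := LocCoh.resA R' (ModuleCat.of R X.carrier)
  have hY : Subsingleton (LocCoh.H a'.toIdeal p (Y : Type u)) := by
    have h' : Subsingleton ((localCohomology (a'.toIdeal.map (algebraMap R' R)) p).obj
        (ModuleCat.of R X.carrier)) :=
      (LocCoh.subsingleton_H_iff_of_radical_eq hrad p _).2 h
    exact (LocCoh.subsingleton_H_restrict_iff a'.toIdeal p (ModuleCat.of R X.carrier)).1 h'
  -- the retraction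
  choose pre hpre hpre' using fun (j : ι) (x : X.carrier) =>
    hgX.exists_eq j (cpt X.gr (c + θ j) x) (cpt_mem X.gr _ x)
  have hfin : ∀ x : X.carrier, (Function.support fun j => pre j x).Finite := fun x =>
    Set.Finite.subset (((finite_cpt X.gr x).preimage
      (fun i _ j _ e => hθ (add_left_cancel e) : Set.InjOn (fun j => c + θ j) _)))
      fun j hj => by
        simp only [Function.mem_support] at hj
        simp only [Set.mem_preimage, Function.mem_support]
        exact fun e => hj (hgX.injective (by rw [hpre', e, map_zero]))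
  let π : X.carrier → X'.carrier := fun x => ∑ᶠ j, pre j x
  have hadd : ∀ x y, π (x + y) = π x + π y := fun x y => by
    have : ∀ j, pre j (x + y) = pre j x + pre j y := fun j =>
      hgX.injective (by rw [map_add, hpre', hpre', hpre', map_add])
    simp only [π, this]
    exact finsum_add_distrib (hfin x) (hfin y)
  have hzero : π 0 = 0 := by
    have : ∀ j, pre j 0 = 0 := fun j => hgX.injective (by rw [hpre', map_zero, map_zero])
    simp [π, this]
  have hπg : ∀ y, π (gX y) = y := fun y => by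
    induction y using homogeneous_induction X'.gr with
    | zero => rw [map_zero, hzero]
    | add a b ha hb => rw [map_add, hadd, ha, hb]
    | hom i y hy =>
      have : ∀ j, pre j (gX y) = if i = j then y else 0 := fun j => hgX.injective (by
        rw [hpre', ← hgX.cpt_eq hθ, cpt_of_mem_ite X'.gr _ hy])
      change ∑ᶠ j, pre j (gX y) = y
      rw [finsum_eq_single _ i fun j hj => by rw [this, if_neg hj.symm], this, if_pos rfl]
  have hsmul : ∀ (r : R') (x : X.carrier), π (φ r • x) = r • π x := by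
    intro r x
    induction r using homogeneous_induction 𝒜' with
    | zero => rw [map_zero, zero_smul, zero_smul, hzero]
    | add r s hr hs => rw [map_add, add_smul, hadd, hr, hs, add_smul]
    | hom i r hr =>
      have : ∀ j, pre j (φ r • x) = r • pre (j - i) x := fun j => hgX.injective (by
        rw [hpre', gX.map_smulₛₗ, hpre', cpt_smul_left' (𝒜 := 𝒜) X.gr (hφ i r hr), map_sub, add_sub_assoc])
      change ∑ᶠ j, pre j (φ r • x) = r • ∑ᶠ j, pre j x
      simp only [this]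
      rw [smul_finsum' r (hfin x)]
      exact finsum_comp_equiv (Equiv.subRight i) (f := fun j => r • pre j x)
  let incl : X'.carrier →ₗ[R'] (Y : Type u) :=
    { toFun := fun y => (gX y : X.carrier)
      map_add' := map_add gX
      map_smul' := fun r y => gX.map_smulₛₗ r y }
  let ret : (Y : Type u) →ₗ[R'] X'.carrier :=
    { toFun := fun x => π (x : X.carrier)
      map_add' := hadd
      map_smul' := fun r x => hsmul r x }
  refine subsingleton_of_forall_eq 0 fun x => ?_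
  have hid : ret ∘ₗ incl = LinearMap.id := LinearMap.ext fun y => hπg y
  have := LocCohElt.map_comp a'.toIdeal p incl ret x
  rw [hid, LocCohElt.map_id] at this
  rw [← this, Subsingleton.elim (LocCohElt.map a'.toIdeal p incl x) 0, map_zero]

include hφ in
theorem mem_gam_iff (hinj : Function.Injective g) (a : HomogeneousIdeal 𝒜) (a' : HomogeneousIdeal 𝒜')
    (hrad : (a'.toIdeal.map φ).radical = a.toIdeal.radical) (x : M') :
    x ∈ _root_.GrLC.gam a'.toIdeal M' ↔ g x ∈ _root_.GrLC.gam a.toIdeal M := by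
  constructor
  · rintro ⟨n, hn⟩
    obtain ⟨l, hl⟩ := Ideal.exists_pow_le_of_le_radical_of_fg (I := a.toIdeal) (J := a'.toIdeal.map φ)
      (hrad.symm ▸ Ideal.le_radical) (IsNoetherian.noetherian _)
    refine ⟨l * n, fun r hr => ?_⟩
    have h1 : r ∈ (a'.toIdeal ^ n).map φ := by
      rw [Ideal.map_pow]
      exact Ideal.pow_right_mono hl n (by rwa [← pow_mul])
    clear hr
    induction h1 using Submodule.span_induction with
    | mem r hr' =>
      obtain ⟨r', hr', rfl⟩ := hr'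
      rw [← g.map_smulₛₗ, hn r' hr', map_zero]
    | zero => exact zero_smul _ _
    | add a b _ _ ha hb => rw [add_smul, ha, hb, add_zero]
    | smul a b _ hb => rw [smul_eq_mul, mul_smul, hb, smul_zero]
  · rintro ⟨n, hn⟩
    obtain ⟨l, hl⟩ := Ideal.exists_pow_le_of_le_radical_of_fg (I := a'.toIdeal.map φ) (J := a.toIdeal)
      (hrad ▸ Ideal.le_radical) (IsNoetherian.noetherian _)
    refine ⟨l * n, fun r hr => hinj ?_⟩
    have h2 : φ r ∈ a.toIdeal ^ n := by
      refine Ideal.pow_right_mono hl n ?_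
      rw [← pow_mul, ← Ideal.map_pow]
      exact Ideal.mem_map_of_mem φ hr
    rw [g.map_smulₛₗ, hn _ h2, map_zero]

end Groth.Agent.GrTransfer

namespace Groth.Agent.GrTransfer

variable {G : Type} [AddCommGroup G] [DecidableEq G] {ι : Type} [AddCommGroup ι] [DecidableEq ι]
variable {R : Type u} [CommRing R] [IsNoetherianRing R] {σ : Type u} [SetLike σ R]
  [AddSubgroupClass σ R] {𝒜 : G → σ} [GradedRing 𝒜]
variable {R' : Type u} [CommRing R'] [IsNoetherianRing R'] {σ' : Type u} [SetLike σ' R']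
  [AddSubgroupClass σ' R'] {𝒜' : ι → σ'} [GradedRing 𝒜']
variable (φ : R' →+* R) (θ : ι →+ G) (hθ : Function.Injective θ)
  (hφ : ∀ (i : ι) (r : R'), r ∈ 𝒜' i → φ r ∈ 𝒜 (θ i))
variable (a : HomogeneousIdeal 𝒜) (a' : HomogeneousIdeal 𝒜')
  (hrad : (a'.toIdeal.map φ).radical = a.toIdeal.radical)

set_option maxRecDepth 20000 in
include hθ hφ hrad in
/-- The case `p = 0`, explicitly. -/
theorem exists_zero {c : G} {M : Type u} [AddCommGroup M] [Module R M] {τ : Type u} [SetLike τ M]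
    [AddSubgroupClass τ M] {ℳ : G → τ} [DirectSum.Decomposition ℳ] [SetLike.GradedSMul 𝒜 ℳ]
    {M' : Type u} [AddCommGroup M'] [Module R' M'] {τ' : Type u} [SetLike τ' M']
    [AddSubgroupClass τ' M'] {ℳ' : ι → τ'} [DirectSum.Decomposition ℳ']
    [SetLike.GradedSMul 𝒜' ℳ'] {g : M' →ₛₗ[φ] M} (hg : IsPart φ θ c ℳ ℳ' g) (j : ι) :
    ∃ e : LC.gr ℳ' a' 0 j ≃+ LC.gr ℳ a 0 (c + θ j),
      (∀ (r : R'), r ∈ 𝒜' 0 → ∀ x y : LC.gr ℳ' a' 0 j, y.1 = r • x.1 → (e y).1 = φ r • (e x).1) ∧
      ∀ (x : LC.gr ℳ' a' 0 j) (m' : _root_.GrLC.gam a'.toIdeal M'), z0 a' ℳ' m' = x.1 →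
        ∀ m : _root_.GrLC.gam a.toIdeal M, g m'.1 = m.1 → (e x).1 = z0 a ℳ m := by
  have hgam := mem_gam_iff (θ := θ) hφ (g := g) hg.injective a a' hrad
  let γ : _root_.GrLC.gam a'.toIdeal M' →ₛₗ[φ] _root_.GrLC.gam a.toIdeal M :=
    { toFun := fun m => ⟨g m.1, (hgam m.1).1 m.2⟩
      map_add' := fun x y => Subtype.ext (map_add g _ _)
      map_smul' := fun r x => Subtype.ext (g.map_smulₛₗ r x.1) }
  let e' := LinearEquiv.ofBijective (z0 a' ℳ') (z0_bijective a' ℳ')
  have hmem : ∀ x : LC.gr ℳ' a' 0 j, z0 a ℳ (γ (e'.symm x.1)) ∈ LC.gr ℳ a 0 (c + θ j) := fun x => by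
    rw [z0_mem_iff]
    exact hg.mem j _ ((z0_mem_iff a' ℳ' j _).1 (by
      change e' (e'.symm x.1) ∈ _
      rw [e'.apply_symm_apply]; exact x.2))
  let f : LC.gr ℳ' a' 0 j →+ LC.gr ℳ a 0 (c + θ j) :=
    AddMonoidHom.mk' (fun x => ⟨z0 a ℳ (γ (e'.symm x.1)), hmem x⟩) fun x y => Subtype.ext (by
      change z0 a ℳ (γ (e'.symm (x.1 + y.1))) = z0 a ℳ _ + z0 a ℳ _
      rw [map_add, map_add, map_add])
  have hbij : Function.Bijective f := by
    refine ⟨fun x y h => ?_, fun y => ?_⟩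
    · have h0 : z0 a ℳ (γ (e'.symm x.1)) = z0 a ℳ (γ (e'.symm y.1)) := congrArg Subtype.val h
      have h1 := congrArg Subtype.val ((z0_bijective a ℳ).1 h0)
      exact Subtype.ext (e'.symm.injective (Subtype.ext (hg.injective h1)))
    · obtain ⟨m, hm⟩ := (z0_bijective a ℳ).2 y.1
      obtain ⟨x, hx, hxm⟩ := hg.exists_eq j m.1 ((z0_mem_iff a ℳ _ m).1 (by rw [hm]; exact y.2))
      let m' : _root_.GrLC.gam a'.toIdeal M' := ⟨x, (hgam x).2 (by rw [hxm]; exact m.2)⟩
      refine ⟨⟨e' m', (z0_mem_iff a' ℳ' j m').2 hx⟩, Subtype.ext ?_⟩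
      change z0 a ℳ (γ (e'.symm (e' m'))) = y.1
      rw [e'.symm_apply_apply, show γ m' = m from Subtype.ext hxm, hm]
  refine ⟨AddEquiv.ofBijective f hbij, fun r hr x y hxy => ?_, fun x m' hm' m hm => ?_⟩
  · change z0 a ℳ (γ (e'.symm y.1)) = φ r • z0 a ℳ (γ (e'.symm x.1))
    rw [hxy, e'.symm.map_smul, γ.map_smulₛₗ, LinearMap.map_smul]
  · change z0 a ℳ (γ (e'.symm x.1)) = z0 a ℳ m
    rw [← hm', show e'.symm (z0 a' ℳ' m') = m' from e'.symm_apply_apply m']
    exact congrArg _ (Subtype.ext hm)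

set_option maxRecDepth 20000 in
set_option maxHeartbeats 1000000 in
include hθ hφ hrad in
/-- Transfer of graded local cohomology. -/
theorem transfer : ∀ (p : ℕ) {c : G} {M : Type u} [AddCommGroup M] [Module R M] {τ : Type u}
    [SetLike τ M] [AddSubgroupClass τ M] {ℳ : G → τ} [DirectSum.Decomposition ℳ]
    [SetLike.GradedSMul 𝒜 ℳ] {M' : Type u} [AddCommGroup M'] [Module R' M'] {τ' : Type u}
    [SetLike τ' M'] [AddSubgroupClass τ' M'] {ℳ' : ι → τ'} [DirectSum.Decomposition ℳ']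
    [SetLike.GradedSMul 𝒜' ℳ'] {g : M' →ₛₗ[φ] M}, IsPart φ θ c ℳ ℳ' g → ∀ j : ι,
    ∃ e : LC.gr ℳ' a' p j ≃+ LC.gr ℳ a p (c + θ j),
      ∀ (r : R'), r ∈ 𝒜' 0 → ∀ x y : LC.gr ℳ' a' p j, y.1 = r • x.1 → (e y).1 = φ r • (e x).1 := by
  intro p
  induction p with
  | zero =>
    intro c M _ _ τ _ _ ℳ _ _ M' _ _ τ' _ _ ℳ' _ _ g hg j
    obtain ⟨e, he, -⟩ := exists_zero φ θ hθ hφ a a' hrad hg j
    exact ⟨e, he⟩
  | succ p ih =>
    intro c M _ _ τ _ _ ℳ _ _ M' _ _ τ' _ _ ℳ' _ _ g hg j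
    obtain ⟨E⟩ := exists_res 𝒜 ℳ
    let Z := cocyclesGMod E
    obtain ⟨X', gX, hgX⟩ := exists_part φ θ hθ c hφ (E.X 0)
    obtain ⟨Z', gZ, hgZ⟩ := exists_part φ θ hθ c hφ Z
    let d : (E.X 0).carrier →ₗ[R] Z.carrier := (toAcyclic E).dZ 0
    have hdgr : _root_.GrLC.IsGrHom (E.X 0).gr Z.gr d := fun e x hx => E.d_grHom 0 e x hx
    have hdsurj : Function.Surjective d := (toAcyclic E).dZ_surjective 0
    have hex : Function.Exact E.ε d := LC.tail_exact E
    obtain ⟨ε', hε', hε'gr⟩ := hg.exists_map hgX E.ε_grHom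
    obtain ⟨d', hd', hd'gr⟩ := hgX.exists_map hgZ hdgr
    have hε'inj : Function.Injective ε' := fun x y h => hg.injective (E.ε_injective (by
      rw [← hε', ← hε', h]))
    have hd'surj : Function.Surjective d' := by
      intro z
      induction z using homogeneous_induction Z'.gr with
      | zero => exact ⟨0, map_zero _⟩
      | add a b ha hb =>
        obtain ⟨x, rfl⟩ := ha
        obtain ⟨y, rfl⟩ := hb
        exact ⟨x + y, map_add _ _ _⟩
      | hom i z hz =>
        obtain ⟨x, hx, hxz⟩ := exists_preimage_mem (ℳ := (E.X 0).gr) (𝒩 := Z.gr) hdgr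
          (hgZ.mem i z hz) (hdsurj _)
        obtain ⟨x', -, hx''⟩ := hgX.exists_eq i x hx
        exact ⟨x', hgZ.injective (by rw [hd', hx'', hxz])⟩
    have hex' : Function.Exact ε' d' := by
      intro x
      constructor
      · intro hx
        rw [← sum_cpt X'.gr x]
        refine sum_mem (S := LinearMap.range ε') fun i _ => ?_
        have h1 : d (cpt (E.X 0).gr (c + θ i) (gX x)) = 0 := by
          rw [map_cpt hdgr, ← hd', hx, map_zero, map_zero]
        obtain ⟨m, hm, hme⟩ := exists_preimage_mem (ℳ := ℳ) (𝒩 := (E.X 0).gr) E.ε_grHom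
          (cpt_mem (E.X 0).gr (c + θ i) (gX x)) ((hex _).1 h1)
        obtain ⟨m', -, hm'⟩ := hg.exists_eq i m hm
        exact ⟨m', hgX.injective (by rw [hε', hm', hme, hgX.cpt_eq hθ])⟩
      · rintro ⟨m, rfl⟩
        exact hgZ.injective (by rw [hd', hε', hex.apply_apply_eq_zero, map_zero])
    haveI hX' : ∀ q, Subsingleton (LocCoh.H a'.toIdeal (q + 1) X'.carrier) := fun q =>
      subsingleton_H_part hθ hφ hgX a a' hrad (q + 1) (subsingleton_H_of_starInj (E.starInj 0) a q)
    haveI hX : ∀ q, Subsingleton (LocCoh.H a.toIdeal (q + 1) (E.X 0).carrier) := fun q =>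
      subsingleton_H_of_starInj (E.starInj 0) a q
    -- connecting maps on pieces
    let D : LC.gr Z.gr a p (c + θ j) →+ LC.gr ℳ a (p + 1) (c + θ j) :=
      AddMonoidHom.mk' (fun x => ⟨LocCohElt.δ a.toIdeal p E.ε_injective hex hdsurj x.1,
        LC.δ_mem_gr (ℳ := ℳ) (𝒩 := (E.X 0).gr) a p E.ε_injective hex hdsurj E.ε_grHom hdgr x.2⟩)
        fun x y => Subtype.ext (map_add _ _ _)
    let D' : LC.gr Z'.gr a' p j →+ LC.gr ℳ' a' (p + 1) j :=
      AddMonoidHom.mk' (fun x => ⟨LocCohElt.δ a'.toIdeal p hε'inj hex' hd'surj x.1,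
        LC.δ_mem_gr (ℳ := ℳ') (𝒩 := X'.gr) a' p hε'inj hex' hd'surj hε'gr hd'gr x.2⟩)
        fun x y => Subtype.ext (map_add _ _ _)
    have hεdeg : _root_.GrLC.IsGrHomDeg ℳ (E.X 0).gr E.ε 0 := fun e m hm => by
      rw [add_zero]; exact E.ε_grHom e m hm
    have hε'deg : _root_.GrLC.IsGrHomDeg ℳ' X'.gr ε' 0 := fun e m hm => by
      rw [add_zero]; exact hε'gr e m hm
    have hDs : Function.Surjective D := fun x => by
      obtain ⟨y, hy, hyx⟩ := LC.exists_δ_eq_of_map_eq_zero a p E.ε_injective hex hdsurj hεdeg hdgr x.2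
        (Subsingleton.elim _ 0)
      rw [add_zero] at hy
      exact ⟨⟨y, hy⟩, Subtype.ext hyx⟩
    have hD's : Function.Surjective D' := fun x => by
      obtain ⟨y, hy, hyx⟩ := LC.exists_δ_eq_of_map_eq_zero a' p hε'inj hex' hd'surj hε'deg hd'gr x.2
        (Subsingleton.elim _ 0)
      rw [add_zero] at hy
      exact ⟨⟨y, hy⟩, Subtype.ext hyx⟩
    suffices h : ∃ eZ : LC.gr Z'.gr a' p j ≃+ LC.gr Z.gr a p (c + θ j),
        (∀ (r : R'), r ∈ 𝒜' 0 → ∀ x y : LC.gr Z'.gr a' p j, y.1 = r • x.1 →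
          (eZ y).1 = φ r • (eZ x).1) ∧ ∀ x, D' x = 0 ↔ D (eZ x) = 0 by
      obtain ⟨eZ, hlin, hker⟩ := h
      obtain ⟨e, he⟩ := exists_induced D D' hDs hD's eZ hker
      refine ⟨e, fun r hr x y hxy => ?_⟩
      obtain ⟨x, rfl⟩ := hD's x
      have hrx : r • x.1 ∈ LC.gr Z'.gr a' p j := by
        have := LC.smul_mem_gr' (ℳ := Z'.gr) a' p hr x.2
        rwa [zero_add] at this
      have hy : y = D' ⟨r • x.1, hrx⟩ := Subtype.ext (hxy.trans (LinearMap.map_smul _ r x.1).symm)
      rw [hy, he, he]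
      change LocCohElt.δ a.toIdeal p E.ε_injective hex hdsurj (eZ ⟨r • x.1, hrx⟩).1 =
        φ r • LocCohElt.δ a.toIdeal p E.ε_injective hex hdsurj (eZ x).1
      rw [hlin r hr x ⟨r • x.1, hrx⟩ rfl, LinearMap.map_smul]
    rcases p with - | p
    · obtain ⟨e0, he0, he0'⟩ := exists_zero φ θ hθ hφ a a' hrad hgZ j
      refine ⟨e0, he0, fun x => ?_⟩
      obtain ⟨z', hz'⟩ := (z0_bijective a' Z'.gr).2 x.1
      have hz'j : (z' : Z'.carrier) ∈ Z'.gr j :=
        (z0_mem_iff a' Z'.gr j z').1 (by rw [hz']; exact x.2)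
      let z : _root_.GrLC.gam a.toIdeal Z.carrier :=
        ⟨gZ z'.1, (mem_gam_iff (θ := θ) hφ hgZ.injective a a' hrad z'.1).1 z'.2⟩
      have hez : (e0 x).1 = z0 a Z.gr z := he0' x z' hz' z rfl
      constructor
      · intro h
        have h1 : LocCohElt.δ a'.toIdeal 0 hε'inj hex' hd'surj x.1 = 0 := congrArg Subtype.val h
        obtain ⟨y, hy, hyx⟩ := LC.exists_map_eq_of_δ_eq_zero a' 0 hε'inj hex' hd'surj hd'gr x.2 h1
        obtain ⟨w, rfl⟩ := (z0_bijective a' X'.gr).2 y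
        have hdw : d' w.1 ∈ _root_.GrLC.gam a'.toIdeal Z'.carrier := by
          obtain ⟨n, hn⟩ := w.2
          exact ⟨n, fun r hr => by rw [← map_smul, hn r hr, map_zero]⟩
        rw [map_z0 a' hd'gr w ⟨d' w.1, hdw⟩ rfl, ← hz'] at hyx
        have hwz : d' w.1 = z'.1 := congrArg Subtype.val ((z0_bijective a' Z'.gr).1 hyx)
        let w₀ : _root_.GrLC.gam a.toIdeal (E.X 0).carrier :=
          ⟨gX w.1, (mem_gam_iff (θ := θ) hφ hgX.injective a a' hrad w.1).1 w.2⟩
        have := map_z0 a hdgr w₀ z (by change d (gX w.1) = gZ z'.1; rw [← hd', hwz])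
        apply Subtype.ext
        change LocCohElt.δ a.toIdeal 0 E.ε_injective hex hdsurj (e0 x).1 = 0
        rw [hez, ← this]
        exact (LocCohElt.exact_map_δ a.toIdeal 0 E.ε_injective hex hdsurj).apply_apply_eq_zero _
      · intro h
        have h1 : LocCohElt.δ a.toIdeal 0 E.ε_injective hex hdsurj (e0 x).1 = 0 := congrArg Subtype.val h
        obtain ⟨y, hy, hyx⟩ := LC.exists_map_eq_of_δ_eq_zero a 0 E.ε_injective hex hdsurj hdgr
          (e0 x).2 h1
        obtain ⟨w, rfl⟩ := (z0_bijective a (E.X 0).gr).2 y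
        obtain ⟨w', hw', hww⟩ := hgX.exists_eq j w.1 ((z0_mem_iff a _ _ w).1 hy)
        have hdw : d w.1 ∈ _root_.GrLC.gam a.toIdeal Z.carrier := by
          obtain ⟨n, hn⟩ := w.2
          exact ⟨n, fun r hr => by rw [← map_smul, hn r hr, map_zero]⟩
        rw [map_z0 a hdgr w ⟨d w.1, hdw⟩ rfl, hez] at hyx
        have hwz : d w.1 = gZ z'.1 := congrArg Subtype.val ((z0_bijective a Z.gr).1 hyx)
        let w₀ : _root_.GrLC.gam a'.toIdeal X'.carrier :=
          ⟨w', (mem_gam_iff (θ := θ) hφ hgX.injective a a' hrad w').2 (by rw [hww]; exact w.2)⟩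
        have := map_z0 a' hd'gr w₀ z' (hgZ.injective (by rw [hd', hww, hwz]))
        apply Subtype.ext
        change LocCohElt.δ a'.toIdeal 0 hε'inj hex' hd'surj x.1 = 0
        rw [← hz', ← this]
        exact (LocCohElt.exact_map_δ a'.toIdeal 0 hε'inj hex' hd'surj).apply_apply_eq_zero _
    · obtain ⟨eZ, heZ⟩ := ih hgZ j
      refine ⟨eZ, heZ, fun x => ?_⟩
      have hi : ∀ v : LocCoh.H a.toIdeal (p + 1) Z.carrier,
          LocCohElt.δ a.toIdeal (p + 1) E.ε_injective hex hdsurj v = 0 → v = 0 := fun v hv => by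
        obtain ⟨y, rfl⟩ := (LocCohElt.exact_map_δ a.toIdeal (p + 1) E.ε_injective hex hdsurj v).1 hv
        rw [Subsingleton.elim y 0, map_zero]
      have hi' : ∀ v : LocCoh.H a'.toIdeal (p + 1) Z'.carrier,
          LocCohElt.δ a'.toIdeal (p + 1) hε'inj hex' hd'surj v = 0 → v = 0 := fun v hv => by
        obtain ⟨y, rfl⟩ := (LocCohElt.exact_map_δ a'.toIdeal (p + 1) hε'inj hex' hd'surj v).1 hv
        rw [Subsingleton.elim y 0, map_zero]
      constructor
      · intro h
        have : x = 0 := Subtype.ext (hi' _ (congrArg Subtype.val h))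
        rw [this, map_zero, map_zero]
      · intro h
        have : eZ x = 0 := Subtype.ext (hi _ (congrArg Subtype.val h))
        rw [eZ.map_eq_zero_iff.1 this, map_zero]

include hθ hφ hrad in
theorem gr_eq_bot_iff {c : G} {M : Type u} [AddCommGroup M] [Module R M] {τ : Type u}
    [SetLike τ M] [AddSubgroupClass τ M] {ℳ : G → τ} [DirectSum.Decomposition ℳ]
    [SetLike.GradedSMul 𝒜 ℳ] {M' : Type u} [AddCommGroup M'] [Module R' M'] {τ' : Type u}
    [SetLike τ' M'] [AddSubgroupClass τ' M'] {ℳ' : ι → τ'} [DirectSum.Decomposition ℳ']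
    [SetLike.GradedSMul 𝒜' ℳ'] {g : M' →ₛₗ[φ] M} (hg : IsPart φ θ c ℳ ℳ' g) (p : ℕ) (j : ι) :
    LC.gr ℳ' a' p j = ⊥ ↔ LC.gr ℳ a p (c + θ j) = ⊥ := by
  obtain ⟨e, -⟩ := transfer φ θ hθ hφ a a' hrad p hg j
  rw [AddSubgroup.eq_bot_iff_forall, AddSubgroup.eq_bot_iff_forall]
  constructor
  · intro h x hx
    have h0 : e.symm ⟨x, hx⟩ = 0 := Subtype.ext (h _ (e.symm ⟨x, hx⟩).2)
    exact congrArg Subtype.val (e.symm.map_eq_zero_iff.1 h0)
  · intro h x hx
    have h0 : e ⟨x, hx⟩ = 0 := Subtype.ext (h _ (e ⟨x, hx⟩).2)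
    exact congrArg Subtype.val (e.map_eq_zero_iff.1 h0)

end Groth.Agent.GrTransfer
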