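import Groth.Agent.GrTransfer.Main

/-!
# Transfer of graded local cohomology as one semilinear map

`transferL`: a `φ`-semilinear map `H^p_{a'}(M') → H^p_a(M)` bijective from each piece `j` onto the
piece `c + θ j`.
-/

set_option autoImplicit false
set_option linter.unusedSectionVars false
set_option linter.style.haveILetI false
universe u

open CategoryTheory DirectSum
open Groth.Agent.GrLC

namespace Groth.Agent.GrTransfer

variable {G : Type} [AddCommGroup G] [DecidableEq G] {ι : Type} [AddCommGroup ι] [DecidableEq ι]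
variable {R : Type u} [CommRing R] [IsNoetherianRing R] {σ : Type u} [SetLike σ R]
  [AddSubgroupClass σ R] {𝒜 : G → σ} [GradedRing 𝒜]
variable {R' : Type u} [CommRing R'] [IsNoetherianRing R'] {σ' : Type u} [SetLike σ' R']
  [AddSubgroupClass σ' R'] {𝒜' : ι → σ'} [GradedRing 𝒜']
variable (φ : R' →+* R) (θ : ι →+ G) (hθ : Function.Injective θ)
  (hφ : ∀ (i : ι) (r : R'), r ∈ 𝒜' i → φ r ∈ 𝒜 (θ i))
variable (a : HomogeneousIdeal 𝒜) (a' : HomogeneousIdeal 𝒜')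
  (hrad : (a'.toIdeal.map φ).radical = a.toIdeal.radical)

/-- Two linear surjections with compatible kernels induce a semilinear map. -/
theorem exists_inducedL {A' B' : Type u} [AddCommGroup A'] [Module R' A'] [AddCommGroup B']
    [Module R' B'] {A B : Type u} [AddCommGroup A] [Module R A] [AddCommGroup B] [Module R B]
    (D' : A' →ₗ[R'] B') (hD' : Function.Surjective D') (D : A →ₗ[R] B) (τ : A' →ₛₗ[φ] A)
    (hker : ∀ x, D' x = 0 → D (τ x) = 0) :
    ∃ τ' : B' →ₛₗ[φ] B, ∀ x, τ' (D' x) = D (τ x) := by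
  have hwd : ∀ x y, D' x = D' y → D (τ x) = D (τ y) := fun x y h => by
    rw [← sub_eq_zero, ← map_sub, ← map_sub]
    exact hker _ (by rw [map_sub, h, sub_self])
  let f : B' → B := fun b => D (τ (Function.surjInv hD' b))
  have hf : ∀ x, f (D' x) = D (τ x) := fun x => hwd _ _ (Function.surjInv_eq hD' _)
  refine ⟨{ toFun := f, map_add' := fun b b' => ?_, map_smul' := fun r b => ?_ }, hf⟩
  · obtain ⟨x, rfl⟩ := hD' b
    obtain ⟨y, rfl⟩ := hD' b'
    rw [← map_add, hf, hf, hf, map_add, map_add]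
  · obtain ⟨x, rfl⟩ := hD' b
    rw [← LinearMap.map_smul, hf, hf, τ.map_smulₛₗ, LinearMap.map_smul]

set_option maxRecDepth 20000 in
set_option maxHeartbeats 1000000 in
include hθ hφ hrad in
/-- Transfer of graded local cohomology, semilinearly. -/
theorem transferL : ∀ (p : ℕ) {c : G} {M : Type u} [AddCommGroup M] [Module R M] {τ : Type u}
    [SetLike τ M] [AddSubgroupClass τ M] {ℳ : G → τ} [DirectSum.Decomposition ℳ]
    [SetLike.GradedSMul 𝒜 ℳ] {M' : Type u} [AddCommGroup M'] [Module R' M'] {τ' : Type u}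
    [SetLike τ' M'] [AddSubgroupClass τ' M'] {ℳ' : ι → τ'} [DirectSum.Decomposition ℳ']
    [SetLike.GradedSMul 𝒜' ℳ'] {g : M' →ₛₗ[φ] M}, IsPart φ θ c ℳ ℳ' g →
    ∃ T : LocCoh.H a'.toIdeal p M' →ₛₗ[φ] LocCoh.H a.toIdeal p M, ∀ j : ι,
      (∀ x ∈ LC.gr ℳ' a' p j, T x ∈ LC.gr ℳ a p (c + θ j)) ∧
      (∀ x ∈ LC.gr ℳ' a' p j, T x = 0 → x = 0) ∧
      ∀ y ∈ LC.gr ℳ a p (c + θ j), ∃ x ∈ LC.gr ℳ' a' p j, T x = y := by
  -- the case `p = 0`, with its defining property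
  have zero : ∀ {c : G} {M : Type u} [AddCommGroup M] [Module R M] {τ : Type u} [SetLike τ M]
      [AddSubgroupClass τ M] {ℳ : G → τ} [DirectSum.Decomposition ℳ] [SetLike.GradedSMul 𝒜 ℳ]
      {M' : Type u} [AddCommGroup M'] [Module R' M'] {τ' : Type u} [SetLike τ' M']
      [AddSubgroupClass τ' M'] {ℳ' : ι → τ'} [DirectSum.Decomposition ℳ']
      [SetLike.GradedSMul 𝒜' ℳ'] {g : M' →ₛₗ[φ] M}, IsPart φ θ c ℳ ℳ' g →
      ∃ T : LocCoh.H a'.toIdeal 0 M' →ₛₗ[φ] LocCoh.H a.toIdeal 0 M,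
        (∀ (m' : _root_.GrLC.gam a'.toIdeal M') (m : _root_.GrLC.gam a.toIdeal M), g m'.1 = m.1 →
          T (z0 a' ℳ' m') = z0 a ℳ m) ∧ ∀ j : ι,
        (∀ x ∈ LC.gr ℳ' a' 0 j, T x ∈ LC.gr ℳ a 0 (c + θ j)) ∧
        (∀ x ∈ LC.gr ℳ' a' 0 j, T x = 0 → x = 0) ∧
        ∀ y ∈ LC.gr ℳ a 0 (c + θ j), ∃ x ∈ LC.gr ℳ' a' 0 j, T x = y := by
    intro c M _ _ τ _ _ ℳ _ _ M' _ _ τ' _ _ ℳ' _ _ g hg
    have hgam := mem_gam_iff (θ := θ) hφ (g := g) hg.injective a a' hrad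
    let γ : _root_.GrLC.gam a'.toIdeal M' →ₛₗ[φ] _root_.GrLC.gam a.toIdeal M :=
      { toFun := fun m => ⟨g m.1, (hgam m.1).1 m.2⟩
        map_add' := fun x y => Subtype.ext (map_add g _ _)
        map_smul' := fun r x => Subtype.ext (g.map_smulₛₗ r x.1) }
    let e' := LinearEquiv.ofBijective (z0 a' ℳ') (z0_bijective a' ℳ')
    have hT : ∀ (m' : _root_.GrLC.gam a'.toIdeal M') (m : _root_.GrLC.gam a.toIdeal M), g m'.1 = m.1 →
        z0 a ℳ (γ (e'.symm (z0 a' ℳ' m'))) = z0 a ℳ m := fun m' m h => by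
      rw [show e'.symm (z0 a' ℳ' m') = m' from e'.symm_apply_apply m',
        show γ m' = m from Subtype.ext h]
    refine ⟨((z0 a ℳ).comp γ).comp e'.symm.toLinearMap, hT, fun j => ⟨?_, ?_, ?_⟩⟩
    · intro x hx
      obtain ⟨m', rfl⟩ := (z0_bijective a' ℳ').2 x
      change z0 a ℳ (γ (e'.symm (z0 a' ℳ' m'))) ∈ _
      rw [hT m' (γ m') rfl, z0_mem_iff]
      exact hg.mem j _ ((z0_mem_iff a' ℳ' j m').1 hx)
    · intro x _ h
      obtain ⟨m', rfl⟩ := (z0_bijective a' ℳ').2 x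
      change z0 a ℳ (γ (e'.symm (z0 a' ℳ' m'))) = 0 at h
      rw [hT m' (γ m') rfl] at h
      have h1 : g m'.1 = 0 :=
        congrArg Subtype.val ((z0_bijective a ℳ).1 (h.trans (map_zero _).symm))
      rw [show m' = 0 from Subtype.ext (hg.injective (h1.trans (map_zero g).symm)), map_zero]
    · intro y hy
      obtain ⟨m, rfl⟩ := (z0_bijective a ℳ).2 y
      obtain ⟨x, hx, hxm⟩ := hg.exists_eq j m.1 ((z0_mem_iff a ℳ _ m).1 hy)
      let m' : _root_.GrLC.gam a'.toIdeal M' := ⟨x, (hgam x).2 (by rw [hxm]; exact m.2)⟩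
      exact ⟨z0 a' ℳ' m', (z0_mem_iff a' ℳ' j m').2 hx, hT m' m hxm⟩
  intro p
  induction p with
  | zero =>
    intro c M _ _ τ _ _ ℳ _ _ M' _ _ τ' _ _ ℳ' _ _ g hg
    obtain ⟨T, -, hT⟩ := zero hg
    exact ⟨T, hT⟩
  | succ p ih =>
    intro c M _ _ τ _ _ ℳ _ _ M' _ _ τ' _ _ ℳ' _ _ g hg
    obtain ⟨E⟩ := exists_res 𝒜 ℳ
    let Z := cocyclesGMod E
    obtain ⟨X', gX, hgX⟩ := exists_part φ θ hθ c hφ (E.X 0)
    obtain ⟨Z', gZ, hgZ⟩ := exists_part φ θ hθ c hφ Z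
    let d : (E.X 0).carrier →ₗ[R] Z.carrier := (toAcyclic E).dZ 0
    have hdgr : _root_.GrLC.IsGrHom (E.X 0).gr Z.gr d := fun e x hx => E.d_grHom 0 e x hx
    have hdsurj : Function.Surjective d := (toAcyclic E).dZ_surjective 0
    have hex : Function.Exact E.ε d := LC.tail_exact E
    obtain ⟨ε', hε', hε'gr⟩ := hg.exists_map hgX E.ε_grHom
    obtain ⟨d', hd', hd'gr⟩ := hgX.exists_map hgZ hdgr
    have hε'inj : Function.Injective ε' := fun x y h => hg.injective (E.ε_injective (by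
      rw [← hε', ← hε', h]))
    have hd'surj : Function.Surjective d' := by
      intro z
      induction z using homogeneous_induction Z'.gr with
      | zero => exact ⟨0, map_zero _⟩
      | add a b ha hb =>
        obtain ⟨x, rfl⟩ := ha
        obtain ⟨y, rfl⟩ := hb
        exact ⟨x + y, map_add _ _ _⟩
      | hom i z hz =>
        obtain ⟨x, hx, hxz⟩ := exists_preimage_mem (ℳ := (E.X 0).gr) (𝒩 := Z.gr) hdgr
          (hgZ.mem i z hz) (hdsurj _)
        obtain ⟨x', -, hx''⟩ := hgX.exists_eq i x hx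
        exact ⟨x', hgZ.injective (by rw [hd', hx'', hxz])⟩
    have hex' : Function.Exact ε' d' := by
      intro x
      constructor
      · intro hx
        rw [← sum_cpt X'.gr x]
        refine sum_mem (S := LinearMap.range ε') fun i _ => ?_
        have h1 : d (cpt (E.X 0).gr (c + θ i) (gX x)) = 0 := by
          rw [map_cpt hdgr, ← hd', hx, map_zero, map_zero]
        obtain ⟨m, hm, hme⟩ := exists_preimage_mem (ℳ := ℳ) (𝒩 := (E.X 0).gr) E.ε_grHom
          (cpt_mem (E.X 0).gr (c + θ i) (gX x)) ((hex _).1 h1)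
        obtain ⟨m', -, hm'⟩ := hg.exists_eq i m hm
        exact ⟨m', hgX.injective (by rw [hε', hm', hme, hgX.cpt_eq hθ])⟩
      · rintro ⟨m, rfl⟩
        exact hgZ.injective (by rw [hd', hε', hex.apply_apply_eq_zero, map_zero])
    haveI hX' : ∀ q, Subsingleton (LocCoh.H a'.toIdeal (q + 1) X'.carrier) := fun q =>
      subsingleton_H_part hθ hφ hgX a a' hrad (q + 1) (subsingleton_H_of_starInj (E.starInj 0) a q)
    haveI hX : ∀ q, Subsingleton (LocCoh.H a.toIdeal (q + 1) (E.X 0).carrier) := fun q =>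
      subsingleton_H_of_starInj (E.starInj 0) a q
    let D := LocCohElt.δ a.toIdeal p E.ε_injective hex hdsurj
    let D' := LocCohElt.δ a'.toIdeal p hε'inj hex' hd'surj
    have hD's : Function.Surjective D' := fun x =>
      (LocCohElt.exact_δ_map a'.toIdeal p hε'inj hex' hd'surj x).1 (Subsingleton.elim _ 0)
    have hεdeg : _root_.GrLC.IsGrHomDeg ℳ (E.X 0).gr E.ε 0 := fun e m hm => by
      rw [add_zero]; exact E.ε_grHom e m hm
    have hε'deg : _root_.GrLC.IsGrHomDeg ℳ' X'.gr ε' 0 := fun e m hm => by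
      rw [add_zero]; exact hε'gr e m hm
    suffices h : ∃ TZ : LocCoh.H a'.toIdeal p Z'.carrier →ₛₗ[φ] LocCoh.H a.toIdeal p Z.carrier,
        (∀ x, D' x = 0 → D (TZ x) = 0) ∧ ∀ j : ι,
          (∀ x ∈ LC.gr Z'.gr a' p j, TZ x ∈ LC.gr Z.gr a p (c + θ j)) ∧
          (∀ x ∈ LC.gr Z'.gr a' p j, D (TZ x) = 0 → D' x = 0) ∧
          ∀ y ∈ LC.gr Z.gr a p (c + θ j), ∃ x ∈ LC.gr Z'.gr a' p j, TZ x = y by
      obtain ⟨TZ, hker, hTZ⟩ := h
      obtain ⟨T, hT⟩ := exists_inducedL φ D' hD's D TZ hker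
      refine ⟨T, fun j => ⟨fun x hx => ?_, fun x hx hx0 => ?_, fun y hy => ?_⟩⟩
      · obtain ⟨z, hz, rfl⟩ := LC.exists_δ_eq_of_map_eq_zero a' p hε'inj hex' hd'surj hε'deg hd'gr hx
          (Subsingleton.elim _ 0)
        rw [add_zero] at hz
        rw [hT]
        exact LC.δ_mem_gr (ℳ := ℳ) (𝒩 := (E.X 0).gr) a p E.ε_injective hex hdsurj E.ε_grHom hdgr
          ((hTZ j).1 z hz)
      · obtain ⟨z, hz, rfl⟩ := LC.exists_δ_eq_of_map_eq_zero a' p hε'inj hex' hd'surj hε'deg hd'gr hx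
          (Subsingleton.elim _ 0)
        rw [add_zero] at hz
        exact (hTZ j).2.1 z hz (by rw [← hT]; exact hx0)
      · obtain ⟨z, hz, rfl⟩ := LC.exists_δ_eq_of_map_eq_zero a p E.ε_injective hex hdsurj hεdeg hdgr hy
          (Subsingleton.elim _ 0)
        rw [add_zero] at hz
        obtain ⟨x, hx, rfl⟩ := (hTZ j).2.2 z hz
        exact ⟨D' x, LC.δ_mem_gr (ℳ := ℳ') (𝒩 := X'.gr) a' p hε'inj hex' hd'surj hε'gr hd'gr hx,
          hT x⟩
    rcases p with - | p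
    · obtain ⟨TZ, hz0, hTZ⟩ := zero hgZ
      refine ⟨TZ, fun x hx => ?_, fun j => ⟨(hTZ j).1, fun x hx h => ?_, (hTZ j).2.2⟩⟩
      · obtain ⟨y, rfl⟩ := (LocCohElt.exact_map_δ a'.toIdeal 0 hε'inj hex' hd'surj x).1 hx
        obtain ⟨w, rfl⟩ := (z0_bijective a' X'.gr).2 y
        have hdw : d' w.1 ∈ _root_.GrLC.gam a'.toIdeal Z'.carrier := by
          obtain ⟨n, hn⟩ := w.2
          exact ⟨n, fun r hr => by rw [← map_smul, hn r hr, map_zero]⟩
        let w₀ : _root_.GrLC.gam a.toIdeal (E.X 0).carrier :=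
          ⟨gX w.1, (mem_gam_iff (θ := θ) hφ hgX.injective a a' hrad w.1).1 w.2⟩
        have hdw₀ : d w₀.1 ∈ _root_.GrLC.gam a.toIdeal Z.carrier := by
          obtain ⟨n, hn⟩ := w₀.2
          exact ⟨n, fun r hr => by rw [← map_smul, hn r hr, map_zero]⟩
        rw [map_z0 a' hd'gr w ⟨d' w.1, hdw⟩ rfl,
          hz0 ⟨d' w.1, hdw⟩ ⟨d w₀.1, hdw₀⟩ (hd' w.1), ← map_z0 a hdgr w₀ ⟨d w₀.1, hdw₀⟩ rfl]
        exact (LocCohElt.exact_map_δ a.toIdeal 0 E.ε_injective hex hdsurj).apply_apply_eq_zero _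
      · obtain ⟨z', rfl⟩ := (z0_bijective a' Z'.gr).2 x
        have hzz : gZ z'.1 ∈ _root_.GrLC.gam a.toIdeal Z.carrier :=
          (mem_gam_iff (θ := θ) hφ hgZ.injective a a' hrad z'.1).1 z'.2
        have hmem := (hTZ j).1 _ hx
        rw [hz0 z' ⟨gZ z'.1, hzz⟩ rfl] at h hmem
        obtain ⟨y, hy, hyx⟩ := LC.exists_map_eq_of_δ_eq_zero a 0 E.ε_injective hex hdsurj hdgr hmem h
        obtain ⟨w, rfl⟩ := (z0_bijective a (E.X 0).gr).2 y
        obtain ⟨w', -, hww⟩ := hgX.exists_eq j w.1 ((z0_mem_iff a _ _ w).1 hy)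
        have hdw : d w.1 ∈ _root_.GrLC.gam a.toIdeal Z.carrier := by
          obtain ⟨n, hn⟩ := w.2
          exact ⟨n, fun r hr => by rw [← map_smul, hn r hr, map_zero]⟩
        rw [map_z0 a hdgr w ⟨d w.1, hdw⟩ rfl] at hyx
        have hwz : d w.1 = gZ z'.1 := congrArg Subtype.val ((z0_bijective a Z.gr).1 hyx)
        let w₀ : _root_.GrLC.gam a'.toIdeal X'.carrier :=
          ⟨w', (mem_gam_iff (θ := θ) hφ hgX.injective a a' hrad w').2 (by rw [hww]; exact w.2)⟩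
        rw [← map_z0 a' hd'gr w₀ z' (hgZ.injective (by rw [hd', hww, hwz]))]
        exact (LocCohElt.exact_map_δ a'.toIdeal 0 hε'inj hex' hd'surj).apply_apply_eq_zero _
    · obtain ⟨TZ, hTZ⟩ := ih hgZ
      have hi : ∀ v : LocCoh.H a.toIdeal (p + 1) Z.carrier, D v = 0 → v = 0 := fun v hv => by
        obtain ⟨y, rfl⟩ := (LocCohElt.exact_map_δ a.toIdeal (p + 1) E.ε_injective hex hdsurj v).1 hv
        rw [Subsingleton.elim y 0, map_zero]
      have hi' : ∀ v : LocCoh.H a'.toIdeal (p + 1) Z'.carrier, D' v = 0 → v = 0 := fun v hv => by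
        obtain ⟨y, rfl⟩ := (LocCohElt.exact_map_δ a'.toIdeal (p + 1) hε'inj hex' hd'surj v).1 hv
        rw [Subsingleton.elim y 0, map_zero]
      refine ⟨TZ, fun x hx => by rw [hi' x hx, map_zero, map_zero], fun j =>
        ⟨(hTZ j).1, fun x hx h => ?_, (hTZ j).2.2⟩⟩
      rw [(hTZ j).2.1 x hx (hi _ h), map_zero]

end Groth.Agent.GrTransfer

namespace Groth.Agent.GrTransfer

open Groth.Agent.GrLC

variable {G : Type} [AddCommGroup G] [DecidableEq G] {ι : Type} [AddCommGroup ι] [DecidableEq ι]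
variable {R : Type u} [CommRing R] [IsNoetherianRing R] {σ : Type u} [SetLike σ R]
  [AddSubgroupClass σ R] {𝒜 : G → σ} [GradedRing 𝒜]
variable {R' : Type u} [CommRing R'] [IsNoetherianRing R'] {σ' : Type u} [SetLike σ' R']
  [AddSubgroupClass σ' R'] {𝒜' : ι → σ'} [GradedRing 𝒜']

/-- Transfer between the cohomology computed from given resolutions. -/
theorem transfer_res (φ : R' →+* R) (θ : ι →+ G) (hθ : Function.Injective θ)
    (hφ : ∀ (i : ι) (r : R'), r ∈ 𝒜' i → φ r ∈ 𝒜 (θ i)) (a : HomogeneousIdeal 𝒜)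
    (a' : HomogeneousIdeal 𝒜') (hrad : (a'.toIdeal.map φ).radical = a.toIdeal.radical) {c : G}
    {M : Type u} [AddCommGroup M] [Module R M] {τ : Type u} [SetLike τ M] [AddSubgroupClass τ M]
    {ℳ : G → τ} [DirectSum.Decomposition ℳ] [SetLike.GradedSMul 𝒜 ℳ] {M' : Type u} [AddCommGroup M']
    [Module R' M'] {τ' : Type u} [SetLike τ' M'] [AddSubgroupClass τ' M'] {ℳ' : ι → τ'}
    [DirectSum.Decomposition ℳ'] [SetLike.GradedSMul 𝒜' ℳ'] {g : M' →ₛₗ[φ] M}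
    (hg : IsPart φ θ c ℳ ℳ' g) (E : _root_.GrLC.StarInjRes 𝒜 ℳ) (E' : _root_.GrLC.StarInjRes 𝒜' ℳ')
    (p : ℕ) : ∃ T : E'.H a' p →ₛₗ[φ] E.H a p, ∀ j : ι,
      (∀ x ∈ E'.Hgr a' p j, T x ∈ E.Hgr a p (c + θ j)) ∧
      (∀ x ∈ E'.Hgr a' p j, T x = 0 → x = 0) ∧
      ∀ y ∈ E.Hgr a p (c + θ j), ∃ x ∈ E'.Hgr a' p j, T x = y := by
  obtain ⟨T, hT⟩ := transferL φ θ hθ hφ a a' hrad p hg
  have hin : ∀ (j : ι) (x : E'.H a' p), x ∈ E'.Hgr a' p j →
      Hequiv E' a' p x ∈ LC.gr ℳ' a' p j := fun j x hx => by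
    rw [LC.gr_eq a' p E']; exact ⟨x, hx, rfl⟩
  have hout : ∀ (e : G) (y : LocCoh.H a.toIdeal p M), y ∈ LC.gr ℳ a p e →
      (Hequiv E a p).symm y ∈ E.Hgr a p e := fun e y hy => by
    rw [LC.gr_eq a p E] at hy
    obtain ⟨x, hx, rfl⟩ := hy
    change (Hequiv E a p).symm (Hequiv E a p x) ∈ _
    rwa [LinearEquiv.symm_apply_apply]
  refine ⟨((Hequiv E a p).symm.toLinearMap.comp T).comp (Hequiv E' a' p).toLinearMap, fun j =>
    ⟨fun x hx => hout _ _ ((hT j).1 _ (hin j x hx)), fun x hx h => ?_, fun y hy => ?_⟩⟩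
  · refine (Hequiv E' a' p).injective ?_
    rw [map_zero]
    exact (hT j).2.1 _ (hin j x hx) ((Hequiv E a p).symm.injective (h.trans (map_zero _).symm))
  · have hy' : Hequiv E a p y ∈ LC.gr ℳ a p (c + θ j) := by
      rw [LC.gr_eq a p E]; exact ⟨y, hy, rfl⟩
    obtain ⟨z, hz, hzy⟩ := (hT j).2.2 _ hy'
    rw [LC.gr_eq a' p E'] at hz
    obtain ⟨x, hx, rfl⟩ := hz
    refine ⟨x, hx, ?_⟩
    change (Hequiv E a p).symm (T (Hequiv E' a' p x)) = y
    rw [← LinearEquiv.eq_symm_apply, LinearEquiv.symm_symm]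
    exact hzy

end Groth.Agent.GrTransfer
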