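import Groth.Agent.GrLC.Basic
import Groth.Agent.GrSegre.Proj

/-!
# A sublattice part of a Noetherian graded ring is Noetherian
-/

set_option autoImplicit false
set_option linter.unusedSectionVars false
universe u

open DirectSum
open Groth.Agent.GrLC

namespace Groth.Agent.GrTransfer

theorem isNoetherianRing_of_part {G ι : Type} [AddCommGroup G] [DecidableEq G] [AddCommGroup ι]
    [DecidableEq ι] {R : Type u} [CommRing R] [IsNoetherianRing R] {σ : Type u} [SetLike σ R]
    [AddSubgroupClass σ R] (𝒜 : G → σ) [GradedRing 𝒜] {R' : Type u} [CommRing R'] {σ' : Type u}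
    [SetLike σ' R'] [AddSubgroupClass σ' R'] (𝒜' : ι → σ') [GradedRing 𝒜'] (φ : R' →+* R)
    (hinj : Function.Injective φ) (θ : ι →+ G) (hθ : Function.Injective θ)
    (hφ : ∀ (i : ι) (r : R'), r ∈ 𝒜' i → φ r ∈ 𝒜 (θ i))
    (hsurj : ∀ (i : ι) (x : R), x ∈ 𝒜 (θ i) → ∃ r ∈ 𝒜' i, φ r = x) : IsNoetherianRing R' := by
  classical
  have hfin : ∀ x : R, (Function.support fun i => cpt 𝒜 (θ i) x).Finite := fun x =>
    (finite_cpt 𝒜 x).preimage (fun i _ j _ e => hθ e : Set.InjOn (fun i => θ i) _)
  let proj : R →+ R := AddMonoidHom.mk' (fun x => ∑ᶠ i, cpt 𝒜 (θ i) x) fun x y => by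
    simp only [map_add]
    exact finsum_add_distrib (hfin x) (hfin y)
  have hfix : ∀ q, proj (φ q) = φ q := fun q => by
    induction q using homogeneous_induction 𝒜' with
    | zero => rw [map_zero, map_zero]
    | add a b ha hb => rw [map_add, map_add, ha, hb]
    | hom i q hq =>
      change ∑ᶠ j, cpt 𝒜 (θ j) (φ q) = φ q
      rw [finsum_eq_single _ i fun j hj => cpt_of_mem_ne 𝒜 (hφ i q hq) fun e => hj (hθ e).symm,
        cpt_of_mem 𝒜 (hφ i q hq)]
  refine GrSegre.isNoetherian_of_retract (B := R) (X := R') (V := R) (P := R')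
    φ.toAddMonoidHom proj hinj hfix fun b q => ?_
  have hb : ∀ x : R, ∃ r : R', proj x = φ r ∧ ∀ q, proj (x * φ q) = φ (r * q) := by
    intro x
    induction x using homogeneous_induction 𝒜 with
    | zero => exact ⟨0, by simp, fun q => by simp⟩
    | add a b ha hb =>
      obtain ⟨r, hr, hr'⟩ := ha
      obtain ⟨s, hs, hs'⟩ := hb
      exact ⟨r + s, by rw [map_add, hr, hs, map_add],
        fun q => by rw [add_mul, map_add, hr', hs', add_mul, map_add]⟩
    | hom g x hx =>
      by_cases h : ∃ i, θ i = g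
      · obtain ⟨i, rfl⟩ := h
        obtain ⟨r, -, rfl⟩ := hsurj i x hx
        exact ⟨r, hfix r, fun q => by rw [← map_mul, hfix]⟩
      · push Not at h
        refine ⟨0, ?_, fun q => ?_⟩
        · change ∑ᶠ j, cpt 𝒜 (θ j) x = _
          rw [map_zero]
          exact finsum_eq_zero_of_forall_eq_zero fun j => cpt_of_mem_ne 𝒜 hx (h j).symm
        · rw [zero_mul, map_zero]
          induction q using homogeneous_induction 𝒜' with
          | zero => simp
          | add a b ha hb => rw [map_add, mul_add, map_add, ha, hb, add_zero]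
          | hom i q hq =>
            change ∑ᶠ j, cpt 𝒜 (θ j) (x * φ q) = 0
            exact finsum_eq_zero_of_forall_eq_zero fun j => cpt_of_mem_ne 𝒜
              (SetLike.mul_mem_graded hx (hφ i q hq))
              fun e => h (j - i) (by rw [map_sub, ← e, add_sub_cancel_right])
  obtain ⟨r, -, hr⟩ := hb b
  exact ⟨r * q, Submodule.mem_span_singleton.2 ⟨r, rfl⟩, hr q⟩

end Groth.Agent.GrTransfer
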