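import Groth.Agent.GrLC.GrCohExact

/-!
# The natural identification of `H^0` with torsion, with degrees
-/

set_option autoImplicit false
set_option linter.unusedSectionVars false
universe u

open CategoryTheory DirectSum
open Groth.Agent.GrLC

namespace Groth.Agent.GrTransfer

variable {ι : Type} [AddCommGroup ι] [DecidableEq ι]
variable {R : Type u} [CommRing R] [IsNoetherianRing R]
variable {σ : Type u} [SetLike σ R] [AddSubgroupClass σ R] {𝒜 : ι → σ} [GradedRing 𝒜]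
variable (a : HomogeneousIdeal 𝒜)
variable {M : Type u} [AddCommGroup M] [Module R M] {τ : Type u} [SetLike τ M] [AddSubgroupClass τ M]

/-- A torsion element as a cocycle of degree zero. -/
def zeroCocyc {ℳ : ι → τ} [DirectSum.Decomposition ℳ] [SetLike.GradedSMul 𝒜 ℳ]
    (E : _root_.GrLC.StarInjRes 𝒜 ℳ) :
    _root_.GrLC.gam a.toIdeal M →ₗ[R] E.cocyc a 0 :=
  (E.ε ∘ₗ (_root_.GrLC.gam a.toIdeal M).subtype).codRestrict _ fun m => by
    refine ⟨?_, ?_⟩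
    · obtain ⟨n, hn⟩ := m.2
      exact ⟨n, fun r hr => by
        rw [LinearMap.comp_apply, Submodule.subtype_apply, ← map_smul, hn r hr, map_zero]⟩
    · exact E.exact_zero.ge ⟨m.1, rfl⟩

/-- The map from torsion to `H^0`. -/
noncomputable def zeroMap {ℳ : ι → τ} [DirectSum.Decomposition ℳ] [SetLike.GradedSMul 𝒜 ℳ]
    (E : _root_.GrLC.StarInjRes 𝒜 ℳ) :
    _root_.GrLC.gam a.toIdeal M →ₗ[R] LocCoh.H a.toIdeal 0 M :=
  (Hequiv E a 0).toLinearMap ∘ₗ E.toH a 0 ∘ₗ zeroCocyc a E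

/-- The canonical map from torsion to `H^0`. -/
noncomputable def z0 (ℳ : ι → τ) [DirectSum.Decomposition ℳ] [SetLike.GradedSMul 𝒜 ℳ] :
    _root_.GrLC.gam a.toIdeal M →ₗ[R] LocCoh.H a.toIdeal 0 M :=
  zeroMap a (exists_res 𝒜 ℳ).some

theorem z0_bijective (ℳ : ι → τ) [DirectSum.Decomposition ℳ] [SetLike.GradedSMul 𝒜 ℳ] :
    Function.Bijective (z0 a ℳ) := by
  let E := (exists_res 𝒜 ℳ).some
  change Function.Bijective (zeroMap a E)
  have hψ : Function.Bijective (zeroCocyc a E) := by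
    refine ⟨fun x y h => Subtype.ext (E.ε_injective (congrArg Subtype.val h)), fun z => ?_⟩
    obtain ⟨m, hm⟩ : z.1 ∈ LinearMap.range E.ε := E.exact_zero.le z.2.2
    obtain ⟨n, hn⟩ := z.2.1
    refine ⟨⟨m, n, fun r hr => E.ε_injective ?_⟩, Subtype.ext hm⟩
    rw [map_smul, hm, hn r hr, map_zero]
  have hbot : (E.cobdy a 0).comap (E.cocyc a 0).subtype = ⊥ :=
    (Submodule.eq_bot_iff _).2 fun z hz => Subtype.ext hz
  have h2 : Function.Bijective (E.toH a 0) :=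
    ⟨LinearMap.ker_eq_bot.1 ((Submodule.ker_mkQ _).trans hbot), Submodule.mkQ_surjective _⟩
  exact (Hequiv E a 0).bijective.comp (h2.comp hψ)

theorem z0_mem_iff (ℳ : ι → τ) [DirectSum.Decomposition ℳ] [SetLike.GradedSMul 𝒜 ℳ] (g : ι)
    (m : _root_.GrLC.gam a.toIdeal M) : z0 a ℳ m ∈ LC.gr ℳ a 0 g ↔ (m : M) ∈ ℳ g := by
  let E := (exists_res 𝒜 ℳ).some
  rw [LC.mem_gr_iff a 0 E]
  refine ⟨?_, fun hm => ⟨zeroCocyc a E m, E.ε_grHom g _ hm, rfl⟩⟩
  rintro ⟨z, hz, he⟩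
  have hbot : (E.cobdy a 0).comap (E.cocyc a 0).subtype = ⊥ :=
    (Submodule.eq_bot_iff _).2 fun z hz => Subtype.ext hz
  have hz' : z = zeroCocyc a E m :=
    LinearMap.ker_eq_bot.1 ((Submodule.ker_mkQ _).trans hbot) ((Hequiv E a 0).injective he)
  subst hz'
  have hc : E.ε (cpt ℳ g m.1) = E.ε m.1 := by
    rw [map_cpt E.ε_grHom]; exact cpt_of_mem (E.X 0).gr hz
  rw [← E.ε_injective hc]
  exact cpt_mem ℳ g m.1

set_option maxRecDepth 20000 in
/-- Naturality. -/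
theorem map_z0 {ℳ : ι → τ} [DirectSum.Decomposition ℳ] [SetLike.GradedSMul 𝒜 ℳ]
    {N : Type u} [AddCommGroup N] [Module R N] {τ' : Type u} [SetLike τ' N] [AddSubgroupClass τ' N]
    {𝒩 : ι → τ'} [DirectSum.Decomposition 𝒩] [SetLike.GradedSMul 𝒜 𝒩] {f : M →ₗ[R] N}
    (hf : _root_.GrLC.IsGrHom ℳ 𝒩 f) (m : _root_.GrLC.gam a.toIdeal M)
    (m' : _root_.GrLC.gam a.toIdeal N) (h : f m.1 = m'.1) :
    LocCohElt.map a.toIdeal 0 f (z0 a ℳ m) = z0 a 𝒩 m' := by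
  let E := (exists_res 𝒜 ℳ).some
  let E' := (exists_res 𝒜 𝒩).some
  obtain ⟨φ, -, h0, hc⟩ := exists_chainMap E E' hf
  change LocCohElt.map a.toIdeal 0 f (Hequiv E a 0 (E.toH a 0 (zeroCocyc a E m))) =
    Hequiv E' a 0 (E'.toH a 0 (zeroCocyc a E' m'))
  rw [LC.Hequiv_toH, LC.Hequiv_toH]
  refine map_torClass (toAcyclic E) (toAcyclic E') φ hc a.toIdeal f h0 0 _ (Subtype.ext ?_)
  change φ 0 (E.ε m.1) = E'.ε m'.1
  rw [← h]
  exact LinearMap.congr_fun h0 m.1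

attribute [irreducible] z0

end Groth.Agent.GrTransfer
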